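import Mathlib

/-!
# Torsionless and reflexive modules
-/

universe u

namespace TorsionlessLib

variable {S : Type u} [CommRing S]

section

variable [IsNoetherianRing S] (M : Type u) [AddCommGroup M] [Module S M] [Module.Finite S M]

/-- A finite torsionless module embeds in a finite free one. -/
theorem exists_embedding (h : Function.Injective (Module.Dual.eval S M)) :
    ∃ (n : ℕ) (f : M →ₗ[S] Fin n → S), Function.Injective f := by
  haveI : Module.FinitePresentation S M := Module.finitePresentation_of_finite S M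
  haveI : Module.Finite S (Module.Dual S M) := by
    obtain ⟨r, π₀, hπ₀⟩ := Module.Finite.exists_fin' S M
    exact Module.Finite.of_injective π₀.dualMap (LinearMap.dualMap_injective_of_surjective hπ₀)
  obtain ⟨n, π, hπ⟩ := Module.Finite.exists_fin' S (Module.Dual S M)
  refine ⟨n, LinearMap.pi fun i => π (Pi.single i 1), (injective_iff_map_eq_zero _).2 fun m hm => ?_⟩
  refine h (LinearMap.ext fun φ => ?_)
  obtain ⟨c, rfl⟩ := hπ φ
  rw [map_zero, LinearMap.zero_apply, Module.Dual.eval_apply, pi_eq_sum_univ' c, map_sum,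
    LinearMap.sum_apply]
  refine Finset.sum_eq_zero fun i _ => ?_
  have hmi : π (Pi.single i 1) m = 0 := congrFun hm i
  rw [map_smul, LinearMap.smul_apply, hmi, smul_zero]

/-- If maps out of submodules of finite free modules extend, torsionless modules are reflexive. -/
theorem eval_surjective
    (hext : ∀ (n : ℕ) (B C : Type u) [AddCommGroup B] [Module S B] [AddCommGroup C] [Module S C],
      ∀ (i : C →ₗ[S] B), Function.Injective i → ∀ (q : B →ₗ[S] Fin n → S),
        LinearMap.ker q = LinearMap.range i → ∀ ξ : C →ₗ[S] S, ∃ ξ', ξ' ∘ₗ i = ξ) :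
    Function.Surjective (Module.Dual.eval S M) := by
  obtain ⟨r, π, hπ⟩ := Module.Finite.exists_fin' S M
  haveI : IsNoetherian S (Fin r → S) := inferInstance
  obtain ⟨g, G, hG⟩ := Module.Finite.exists_fin' S (LinearMap.ker π)
  intro ξ
  -- restriction of functionals to generators of the kernel
  let w : Fin g → (Fin r → S) := fun i => (G (Pi.single i 1) : LinearMap.ker π)
  let q : Module.Dual S (Fin r → S) →ₗ[S] (Fin g → S) :=
    LinearMap.pi fun i => LinearMap.applyₗ (w i)
  have hq : LinearMap.ker q = LinearMap.range π.dualMap := by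
    apply le_antisymm
    · intro φ hφ
      have hker : ∀ v ∈ LinearMap.ker π, φ v = 0 := by
        intro v hv
        obtain ⟨c, hc⟩ := hG ⟨v, hv⟩
        have hv' : v = ((G c : LinearMap.ker π) : Fin r → S) := by rw [hc]
        rw [hv', pi_eq_sum_univ' c, map_sum, Submodule.coe_sum, map_sum]
        refine Finset.sum_eq_zero fun i _ => ?_
        have h0 : φ (w i) = 0 := congrFun hφ i
        rw [map_smul, Submodule.coe_smul, map_smul]
        show c i • φ (w i) = 0
        rw [h0, smul_zero]
      let e := LinearMap.quotKerEquivOfSurjective π hπ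
      refine ⟨(LinearMap.ker π).liftQ φ hker ∘ₗ e.symm.toLinearMap, LinearMap.ext fun v => ?_⟩
      simp only [LinearMap.dualMap_apply, LinearMap.coe_comp, LinearEquiv.coe_coe,
        Function.comp_apply]
      rw [show π v = e (Submodule.Quotient.mk v) from rfl, e.symm_apply_apply]
      rfl
    · rintro _ ⟨ψ, rfl⟩
      funext i
      show ψ (π (w i)) = 0
      rw [show π (w i) = 0 from (G (Pi.single i 1)).2, map_zero]
  obtain ⟨ξ', hξ'⟩ := hext g _ _ π.dualMap (LinearMap.dualMap_injective_of_surjective hπ) q hq ξ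
  obtain ⟨v, rfl⟩ := (Module.bijective_dual_eval S (Fin r → S)).2 ξ'
  exact ⟨π v, LinearMap.ext fun ψ => LinearMap.congr_fun hξ' ψ⟩

end

/-- The preimage of a nonzero element under functionals: reduced Noetherian rings. -/
theorem exists_dual_notMem [IsReduced S] [IsNoetherianRing S] (M : Type u) [AddCommGroup M]
    [Module S M] [Module.Finite S M] {p : Ideal S} (hp : p ∈ minimalPrimes S) (m : M)
    (hm : ∀ t : S, t • m = 0 → t ∈ p) : ∃ φ : M →ₗ[S] S, φ m ∉ p := by
  haveI := hp.1.1
  let K := Localization.AtPrime p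
  haveI : Ring.KrullDimLE 0 K := .of_isLocalization _ hp _
  letI : Field K := Ring.KrullDimLE.isField_of_isReduced.toField
  let V := LocalizedModule p.primeCompl M
  have hv : (LocalizedModule.mkLinearMap p.primeCompl M m : V) ≠ 0 := by
    intro h
    obtain ⟨t, ht⟩ := (IsLocalizedModule.eq_zero_iff p.primeCompl
      (LocalizedModule.mkLinearMap p.primeCompl M)).1 h
    exact t.2 (hm t ht)
  obtain ⟨ℓ, hℓ⟩ : ∃ ℓ : Module.Dual K V, ℓ (LocalizedModule.mkLinearMap p.primeCompl M m) ≠ 0 := by
    by_contra! hall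
    exact hv ((Module.forall_dual_apply_eq_zero_iff K _).1 hall)
  haveI : Module.FinitePresentation S M := Module.finitePresentation_of_finite S M
  obtain ⟨φ, s, hφ⟩ := Module.FinitePresentation.exists_lift_of_isLocalizedModule p.primeCompl
    (Algebra.linearMap S K) ((ℓ.restrictScalars S) ∘ₗ LocalizedModule.mkLinearMap p.primeCompl M)
  refine ⟨φ, fun hmem => hℓ ?_⟩
  have h0 : algebraMap S K (φ m) = 0 := by
    have : algebraMap S K (φ m) ∈ IsLocalRing.maximalIdeal K :=
      (IsLocalization.AtPrime.to_map_mem_maximal_iff K p _).2 hmem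
    rwa [IsLocalRing.maximalIdeal_eq_bot, Ideal.mem_bot] at this
  have h1 := LinearMap.congr_fun hφ m
  simp only [LinearMap.coe_comp, Function.comp_apply, Algebra.linearMap_apply, h0,
    LinearMap.smul_apply, Submonoid.smul_def] at h1
  have hs : IsUnit (algebraMap S K s) := IsLocalization.map_units K s
  rw [Algebra.smul_def] at h1
  exact (hs.mul_right_eq_zero).1 h1.symm

theorem exists_notMem_minimalPrimes {I : Ideal S} [IsNoetherianRing S]
    (hI : ∀ p ∈ minimalPrimes S, ¬ I ≤ p) : ∃ t ∈ I, ∀ p ∈ minimalPrimes S, t ∉ p := by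
  by_contra! h
  have hf := minimalPrimes.finite_of_isNoetherianRing S
  obtain ⟨p, hp, hle⟩ := (Ideal.subset_union_prime (s := hf.toFinset) ⊥ ⊥
    (fun p hp _ _ => (hf.mem_toFinset.1 hp).1.1)).1 (fun t ht => by
      obtain ⟨p, hp, htp⟩ := h t ht
      simp only [Set.mem_iUnion]
      exact ⟨p, hf.mem_toFinset.2 hp, htp⟩)
  exact hI p (hf.mem_toFinset.1 hp) hle

theorem mem_nonZeroDivisors_of_notMem [IsReduced S] {t : S}
    (ht : ∀ p ∈ minimalPrimes S, t ∉ p) : t ∈ nonZeroDivisors S := by
  rw [mem_nonZeroDivisors_iff_right]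
  intro z hz
  have : z ∈ sInf (minimalPrimes S) := by
    rw [Submodule.mem_sInf]
    intro p hp
    exact (hp.1.1.mem_or_mem (show z * t ∈ p by rw [hz]; exact p.zero_mem)).resolve_right (ht p hp)
  rw [show minimalPrimes S = (⊥ : Ideal S).minimalPrimes from rfl, Ideal.sInf_minimalPrimes] at this
  obtain ⟨n, hn⟩ := this
  exact eq_zero_of_pow_eq_zero (Ideal.mem_bot.1 hn)

/-- Torsion-free modules over reduced Noetherian rings are torsionless. -/
theorem eval_injective [IsReduced S] [IsNoetherianRing S] (M : Type u) [AddCommGroup M]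
    [Module S M] [Module.Finite S M]
    (htf : ∀ t ∈ nonZeroDivisors S, ∀ m : M, t • m = 0 → m = 0) :
    Function.Injective (Module.Dual.eval S M) := by
  refine (injective_iff_map_eq_zero _).2 fun m hm => by_contra fun hm0 => ?_
  have : ∃ p ∈ minimalPrimes S, (LinearMap.toSpanSingleton S M m).ker ≤ p := by
    by_contra! hnot
    obtain ⟨t, ht, htp⟩ := exists_notMem_minimalPrimes hnot
    exact hm0 (htf t (mem_nonZeroDivisors_of_notMem htp) m ht)
  obtain ⟨p, hp, hle⟩ := this
  obtain ⟨φ, hφ⟩ := exists_dual_notMem M hp m fun t ht => hle ht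
  apply hφ
  have h0 : φ m = 0 := LinearMap.congr_fun hm φ
  rw [h0]
  exact p.zero_mem

end TorsionlessLib
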