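import Mathlib
import Groth.Agent.TorsionlessLib.Basic
import Groth.Agent.GorLib.Basic
import Groth.Prelude.Def_CAlg

open CategoryTheory

universe u

namespace TorsionlessLib

variable {S : Type u} [CommRing S]

theorem hasInjDim [LocCoh.IsGorensteinRing S] (hdim : ringKrullDim S ≤ 1) :
    HasInjectiveDimensionLT (ModuleCat.of S S) 2 := by
  refine ((ModuleCat.of S S).hasInjectiveDimensionLE_iff_forall_primeSpectrum 1).2 fun p => ?_
  let L := Localization.AtPrime p.asIdeal
  haveI : LocCoh.IsGorensteinLocalRing L :=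
    LocCoh.IsGorensteinRing.isGorensteinLocalRing_localization p.asIdeal
  have hd : ringKrullDim L ≤ (1 : ℕ) := by
    refine le_trans ?_ (hdim.trans (by simp))
    rw [IsLocalization.AtPrime.ringKrullDim_eq_height p.asIdeal L]
    exact Ideal.height_le_ringKrullDim_of_ne_top p.isPrime.ne_top
  have h2 : GorLib.IDLT L L 2 := GorLib.idlt_of_dim_le hd
  haveI := ModuleCat.localizedModule_isLocalizedModule (ModuleCat.of S S) p.asIdeal.primeCompl
  have e : L ≃ₗ[S] (ModuleCat.of S S).localizedModule p.asIdeal.primeCompl :=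
    IsLocalizedModule.linearEquiv p.asIdeal.primeCompl (Algebra.linearMap S L)
      ((ModuleCat.of S S).localizedModuleMkLinearMap p.asIdeal.primeCompl)
  exact GorLib.idlt_of_equiv (LinearEquiv.extendScalarsOfIsLocalization p.asIdeal.primeCompl L e) h2

/-- Maps from a submodule extend when the quotient embeds in a finite free module. -/
theorem exists_extension_of_hasInjDim (hinj : HasInjectiveDimensionLT (ModuleCat.of S S) 2)
    (n : ℕ) (B C : Type u) [AddCommGroup B] [Module S B] [AddCommGroup C] [Module S C]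
    (i : C →ₗ[S] B) (hi : Function.Injective i) (q : B →ₗ[S] Fin n → S)
    (hq : LinearMap.ker q = LinearMap.range i) (ξ : C →ₗ[S] S) : ∃ ξ', ξ' ∘ₗ i = ξ := by
  have h1 : Subsingleton (Abelian.Ext (ModuleCat.of S (LinearMap.range q)) (ModuleCat.of S S) 1) := by
    let T : ShortComplex (ModuleCat.{u} S) := ShortComplex.moduleCatMk (LinearMap.range q).subtype
      (LinearMap.range q).mkQ (LinearMap.ext fun v => (Submodule.Quotient.mk_eq_zero _).2 v.2)
    have hT : T.ShortExact :=
      { exact := (ShortComplex.moduleCat_exact_iff_range_eq_ker T).2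
          ((Submodule.range_subtype _).trans (Submodule.ker_mkQ _).symm)
        mono_f := (ModuleCat.mono_iff_injective _).2 (Submodule.injective_subtype _)
        epi_g := (ModuleCat.epi_iff_surjective _).2 (Submodule.mkQ_surjective _) }
    refine subsingleton_of_forall_eq 0 fun x => ?_
    obtain ⟨y, hy⟩ := Abelian.Ext.contravariant_sequence_exact₁ hT (ModuleCat.of S S) x (rfl : 1 + 1 = 2)
      (Abelian.Ext.eq_zero_of_hasInjectiveDimensionLT _ 2 le_rfl)
    haveI : Projective T.X₂ := (IsProjective.iff_projective _).1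
      (inferInstanceAs (Module.Projective S (Fin n → S)))
    rw [← hy, Abelian.Ext.eq_zero_of_projective y, Abelian.Ext.comp_zero]
    rfl
  let T : ShortComplex (ModuleCat.{u} S) :=
    ShortComplex.moduleCatMk i q.rangeRestrict (LinearMap.ext fun v => Subtype.ext (by
      have hv : i v ∈ LinearMap.ker q := hq ▸ LinearMap.mem_range_self i v
      simpa using hv))
  have hT : T.ShortExact :=
    { exact := (ShortComplex.moduleCat_exact_iff_range_eq_ker T).2
        (hq.symm.trans (LinearMap.ker_rangeRestrict q).symm)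
      mono_f := (ModuleCat.mono_iff_injective _).2 hi
      epi_g := (ModuleCat.epi_iff_surjective _).2 (LinearMap.surjective_rangeRestrict q) }
  obtain ⟨y, hy⟩ := Abelian.Ext.contravariant_sequence_exact₁ hT (ModuleCat.of S S)
    (Abelian.Ext.mk₀ (ModuleCat.ofHom ξ) : Abelian.Ext T.X₁ (ModuleCat.of S S) 0) (rfl : 1 + 0 = 1)
    (h1.elim _ _)
  obtain ⟨g, rfl⟩ := (Abelian.Ext.mk₀_bijective _ _).2 y
  rw [Abelian.Ext.mk₀_comp_mk₀] at hy
  refine ⟨g.hom, ?_⟩
  have := congrArg ModuleCat.Hom.hom ((Abelian.Ext.mk₀_bijective _ _).1 hy)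
  exact this

theorem bijective_eval_of_injective [LocCoh.IsGorensteinRing S] (hdim : ringKrullDim S ≤ 1)
    (M : Type u) [AddCommGroup M] [Module S M] [Module.Finite S M]
    (h : Function.Injective (Module.Dual.eval S M)) : Function.Bijective (Module.Dual.eval S M) := by
  exact ⟨h, eval_surjective M fun n B C _ _ _ _ i hi q hq ξ =>
    exists_extension_of_hasInjDim (hasInjDim hdim) n B C i hi q hq ξ⟩

theorem subsingleton_ext [LocCoh.IsGorensteinRing S] (hdim : ringKrullDim S ≤ 1)
    (M : Type u) [AddCommGroup M] [Module S M] [Module.Finite S M]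
    (h : Function.Injective (Module.Dual.eval S M)) :
    Subsingleton (Abelian.Ext (ModuleCat.of S M) (ModuleCat.of S S) 1) := by
  haveI := hasInjDim (S := S) hdim
  obtain ⟨n, f, hf⟩ := exists_embedding M h
  let T : ShortComplex (ModuleCat.{u} S) := ShortComplex.moduleCatMk f (LinearMap.range f).mkQ
    (LinearMap.range_mkQ_comp f)
  have hT : T.ShortExact :=
    { exact := (ShortComplex.moduleCat_exact_iff_range_eq_ker T).2 (Submodule.ker_mkQ _).symm
      mono_f := (ModuleCat.mono_iff_injective _).2 hf
      epi_g := (ModuleCat.epi_iff_surjective _).2 (Submodule.mkQ_surjective _) }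
  refine subsingleton_of_forall_eq 0 fun x => ?_
  obtain ⟨y, hy⟩ := Abelian.Ext.contravariant_sequence_exact₁ hT (ModuleCat.of S S) x (rfl : 1 + 1 = 2)
    (Abelian.Ext.eq_zero_of_hasInjectiveDimensionLT _ 2 le_rfl)
  haveI : Projective T.X₂ := (IsProjective.iff_projective _).1
    (inferInstanceAs (Module.Projective S (Fin n → S)))
  rw [← hy, Abelian.Ext.eq_zero_of_projective y, Abelian.Ext.comp_zero]
  rfl

end TorsionlessLib
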