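import Mathlib
import Groth.Agent.TorsionlessLib.Gor

universe u

namespace TorsionlessLib

theorem exists_algebraMap_mem_span {Λ S : Type u} [CommRing Λ] [IsDomain Λ] [CommRing S]
    [Algebra Λ S] [Module.Finite Λ S] [Nontrivial S] {r : S} (hr : r ∈ nonZeroDivisors S) :
    ∃ l : Λ, l ≠ 0 ∧ r ∣ algebraMap Λ S l := by
  have hint : IsIntegral Λ r := Algebra.IsIntegral.isIntegral r
  let P := minpoly Λ r
  have hP : Polynomial.aeval r P = 0 := minpoly.aeval Λ r
  have hsplit : algebraMap Λ S (P.coeff 0) = - (r * Polynomial.aeval r P.divX) := by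
    have h := congrArg (Polynomial.aeval r) (Polynomial.X_mul_divX_add P)
    rw [map_add, map_mul, Polynomial.aeval_X, Polynomial.aeval_C, hP] at h
    exact eq_neg_of_add_eq_zero_right h
  refine ⟨P.coeff 0, fun h0 => ?_, ⟨-Polynomial.aeval r P.divX, by rw [hsplit, mul_neg]⟩⟩
  rw [h0, map_zero] at hsplit
  have h1 : Polynomial.aeval r P.divX = 0 := by
    have := (mem_nonZeroDivisors_iff_left.1 hr) _ (neg_eq_zero.1 hsplit.symm)
    exact this
  have hmon : P.Monic := minpoly.monic hint
  have hd : 0 < P.natDegree := minpoly.natDegree_pos hint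
  have hmon' : P.divX.Monic := by
    rw [Polynomial.Monic, Polynomial.leadingCoeff, Polynomial.natDegree_divX_eq_natDegree_tsub_one,
      Polynomial.coeff_divX, Nat.sub_add_cancel hd]
    exact hmon
  have hmin := minpoly.min Λ r hmon' h1
  have hne : P.divX ≠ 0 := hmon'.ne_zero
  have := Polynomial.natDegree_le_natDegree hmin
  change P.natDegree ≤ _ at this
  rw [Polynomial.natDegree_divX_eq_natDegree_tsub_one] at this
  omega

theorem injective_iff_free (Λ : Type u) [CommRing Λ] [IsDomain Λ] [IsPrincipalIdealRing Λ]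
    (S : Type u) [CommRing S] [Algebra Λ S] [Module.Finite Λ S] [Module.Free Λ S] [IsReduced S]
    (M : Type u) [AddCommGroup M] [Module S M] [Module Λ M] [IsScalarTower Λ S M]
    [Module.Finite S M] :
    Function.Injective (Module.Dual.eval S M) ↔ Module.Free Λ M := by
  haveI : IsNoetherianRing S := IsNoetherianRing.of_finite Λ S
  haveI : Module.Finite Λ M := Module.Finite.trans S M
  constructor
  · intro h
    obtain ⟨n, f, hf⟩ := exists_embedding M h
    haveI : Module.IsTorsionFree Λ M :=
      Function.Injective.moduleIsTorsionFree (f.restrictScalars Λ) hf (f.restrictScalars Λ).map_smul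
    exact Module.free_of_finite_type_torsion_free'
  · intro hfree
    rcases subsingleton_or_nontrivial S with hS | hS
    · haveI : Subsingleton M := Module.subsingleton S M
      exact Function.injective_of_subsingleton _
    refine eval_injective M fun t ht m hm => ?_
    obtain ⟨l, hl, c, hc⟩ := exists_algebraMap_mem_span (Λ := Λ) ht
    have h1 : l • m = 0 := by
      rw [← algebraMap_smul S l m, hc, mul_comm, mul_smul, hm, smul_zero]
    exact (smul_eq_zero.1 h1).resolve_left hl

theorem ringKrullDim_le_one (Λ : Type u) [CommRing Λ] [IsDomain Λ] [IsPrincipalIdealRing Λ]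
    (S : Type u) [CommRing S] [Algebra Λ S] [Module.Finite Λ S] : ringKrullDim S ≤ 1 := by
  have h1 : ringKrullDim S ≤ ringKrullDim Λ :=
    Order.krullDim_le_of_strictMono (PrimeSpectrum.comap (algebraMap Λ S)) fun a b hab => by
      exact Ideal.IsIntegral.comap_lt_comap (R := Λ) (show a.asIdeal < b.asIdeal from hab)
  refine h1.trans ?_
  by_cases hf : IsField Λ
  · letI := hf.toField
    rw [ringKrullDim_eq_zero_of_field]; exact zero_le_one
  · rw [IsPrincipalIdealRing.ringKrullDim_eq_one Λ hf]

variable {S : Type u} [CommRing S] (M : Type u) [AddCommGroup M] [Module S M] [Module.Finite S M]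

theorem end_bijective_of_locallyFree
    (h : ∀ (P : Ideal S) (_ : P.IsPrime),
      Nonempty (LocalizedModule P.primeCompl M ≃ₗ[Localization.AtPrime P] Localization.AtPrime P)) :
    Function.Bijective (algebraMap S (Module.End S M)) := by
  constructor
  · rw [injective_iff_map_eq_zero]
    intro s hs
    have hsm : ∀ m : M, s • m = 0 := fun m => by
      simpa [Module.algebraMap_end_apply] using LinearMap.congr_fun hs m
    by_contra hs0
    obtain ⟨P, hP, hle⟩ := Ideal.exists_le_maximal (LinearMap.toSpanSingleton S S s).ker (fun htop => hs0 (by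
      have h1 : (1 : S) ∈ (LinearMap.toSpanSingleton S S s).ker := htop ▸ Submodule.mem_top
      simpa using h1))
    obtain ⟨e⟩ := h P hP.isPrime
    obtain ⟨v, hv⟩ := e.surjective 1
    obtain ⟨⟨m, u⟩, rfl⟩ := IsLocalizedModule.mk'_surjective P.primeCompl
      (LocalizedModule.mkLinearMap P.primeCompl M) v
    have h0 : algebraMap S (Localization.AtPrime P) s • e (IsLocalizedModule.mk'
        (LocalizedModule.mkLinearMap P.primeCompl M) m u) = 0 := by
      rw [← map_smul, algebraMap_smul, ← IsLocalizedModule.mk'_smul, hsm, IsLocalizedModule.mk'_zero,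
        map_zero]
    have hv' : e (IsLocalizedModule.mk' (LocalizedModule.mkLinearMap P.primeCompl M) m u) = 1 := hv
    rw [hv', smul_eq_mul, mul_one] at h0
    obtain ⟨t, ht⟩ := (IsLocalization.map_eq_zero_iff P.primeCompl _ _).1 h0
    exact t.2 (hle (by simpa [LinearMap.mem_ker] using ht))
  · intro f
    let I : Ideal S :=
      { carrier := {t | ∃ a : S, t • f = a • (LinearMap.id : M →ₗ[S] M)}
        zero_mem' := ⟨0, by simp⟩
        add_mem' := by
          rintro t t' ⟨a, ha⟩ ⟨a', ha'⟩
          exact ⟨a + a', by rw [add_smul, add_smul, ha, ha']⟩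
        smul_mem' := by
          rintro c t ⟨a, ha⟩
          exact ⟨c * a, by rw [smul_eq_mul, mul_smul, mul_smul, ha]⟩ }
    suffices hI : I = ⊤ by
      obtain ⟨a, ha⟩ := (Ideal.eq_top_iff_one I).1 hI
      refine ⟨a, LinearMap.ext fun m => ?_⟩
      have := LinearMap.congr_fun ha m
      simp only [one_smul, LinearMap.smul_apply, LinearMap.id_apply] at this
      rw [this, Module.algebraMap_end_apply]
    by_contra hI
    obtain ⟨P, hP, hle⟩ := Ideal.exists_le_maximal I hI
    haveI := hP.isPrime
    obtain ⟨e⟩ := h P hP.isPrime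
    let L := Localization.AtPrime P
    let ι := LocalizedModule.mkLinearMap P.primeCompl M
    obtain ⟨⟨x, u⟩, hx⟩ := IsLocalizedModule.mk'_surjective P.primeCompl ι (e.symm 1)
    have hx' : ι x = algebraMap S L u • e.symm 1 := by
      rw [← hx, algebraMap_smul]
      exact (IsLocalizedModule.mk'_cancel' ι x u).symm
    have hgen : ∀ m : M, ∃ (c : S) (w : P.primeCompl), (w : S) • m = c • x := fun m => by
      obtain ⟨⟨c, v⟩, hcv⟩ := IsLocalization.surj P.primeCompl (e (ι m))
      have h1 : ι ((v : S) • (u : S) • m) = ι (c • x) := by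
        apply e.injective
        rw [map_smul ι, map_smul ι, map_smul ι, hx', ← algebraMap_smul L (v : S), ← algebraMap_smul L (u : S),
          ← algebraMap_smul L c]
        simp only [map_smul, LinearEquiv.apply_symm_apply, smul_eq_mul, mul_one]
        rw [← hcv]; ring
      obtain ⟨w, hw⟩ := (IsLocalizedModule.eq_iff_exists P.primeCompl ι).1 h1
      refine ⟨w * c, w * v * u, ?_⟩
      simpa [Submonoid.smul_def, mul_smul] using hw
    obtain ⟨c, w, hw⟩ := hgen (f x)
    classical
    obtain ⟨G, hG⟩ := Module.Finite.fg_top (R := S) (M := M)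
    choose d v hv using hgen
    obtain ⟨z, hzP, hz⟩ : ∃ z ∉ P, ∀ m : M, z • ((w : S) • f m - c • m) = 0 := by
      refine ⟨∏ g ∈ G, (v g : S), fun hmem => ?_, fun m => ?_⟩
      · obtain ⟨g, -, hg⟩ := Ideal.IsPrime.prod_mem_iff.1 hmem
        exact (v g).2 hg
      · let g : M →ₗ[S] M := (∏ g ∈ G, (v g : S)) • ((w : S) • f - c • LinearMap.id)
        have hg : g = 0 := by
          refine LinearMap.ext_on (s := (G : Set M)) hG fun m hm => ?_
          show (∏ g ∈ G, (v g : S)) • ((w : S) • f m - c • m) = 0
          rw [← Finset.prod_erase_mul G _ hm, mul_smul, smul_sub, smul_comm (v m : S) (w : S),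
            ← map_smul, hv m, map_smul, smul_comm (w : S) (d m), hw, smul_comm (v m : S) c, hv m,
            smul_comm (d m) c, sub_self, smul_zero]
        exact LinearMap.congr_fun hg m
    have : z * (w : S) ∈ I := ⟨z * c, LinearMap.ext fun m => by
      have := hz m
      rw [smul_sub, sub_eq_zero] at this
      simpa [mul_smul] using this⟩
    exact (hP.isPrime.mem_or_mem (hle this)).elim hzP w.2

theorem locallyFree_of_end_bijective [IsReduced S] [IsNoetherianRing S]
    (hdim : ringKrullDim S ≤ 1) (hrefl : Function.Bijective (Module.Dual.eval S M))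
    (hend : Function.Bijective (algebraMap S (Module.End S M))) (P : Ideal S) (hP : P.IsPrime) :
    Nonempty (LocalizedModule P.primeCompl M ≃ₗ[Localization.AtPrime P] Localization.AtPrime P) := by
  classical
  -- the trace ideal is the unit ideal
  let T : Ideal S := ⨆ φ : Module.Dual S M, LinearMap.range φ
  have hTmem : ∀ (φ : Module.Dual S M) m, φ m ∈ T := fun φ m =>
    (le_iSup (fun φ : Module.Dual S M => LinearMap.range φ) φ) ⟨m, rfl⟩
  have hTmin : ∀ p ∈ minimalPrimes S, ¬ T ≤ p := by
    intro p hp hle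
    obtain ⟨m, hm⟩ : ∃ m : M, ∀ t : S, t • m = 0 → t ∈ p := by
      by_contra! hall
      choose t ht htp using hall
      obtain ⟨G, hG⟩ := Module.Finite.fg_top (R := S) (M := M)
      have h0 : algebraMap S (Module.End S M) (∏ g ∈ G, t g) = 0 := by
        refine LinearMap.ext_on (s := (G : Set M)) hG fun m hm => ?_
        rw [Module.algebraMap_end_apply, ← Finset.prod_erase_mul G _ hm, mul_smul, ht, smul_zero]
        rfl
      have h1 : ∏ g ∈ G, t g ∈ p := by
        rw [(injective_iff_map_eq_zero _).1 hend.1 _ h0]; exact p.zero_mem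
      obtain ⟨g, -, hg⟩ := (hp.1.1.prod_mem_iff).1 h1
      exact htp g hg
    obtain ⟨φ, hφ⟩ := exists_dual_notMem M hp m hm
    exact hφ (hle (hTmem φ m))
  have hT : T = ⊤ := by
    by_contra hne
    obtain ⟨Q, hQ, hTQ⟩ := Ideal.exists_le_maximal T hne
    obtain ⟨x, hxT, hx⟩ := exists_notMem_minimalPrimes hTmin
    have hxreg := mem_nonZeroDivisors_of_notMem hx
    have hQmin : Q ∈ (Ideal.span {x}).minimalPrimes := by
      refine ⟨⟨hQ.isPrime, (Ideal.span_singleton_le_iff_mem _).2 (hTQ hxT)⟩, fun q ⟨hq, hxq⟩ hqQ => ?_⟩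
      by_contra hQq
      haveI := hq
      obtain ⟨r, hr, hrq⟩ := Ideal.exists_minimalPrimes_le (bot_le (a := q))
      have hlt : r < q := lt_of_le_of_ne hrq fun h =>
        hx r hr (h ▸ hxq (Ideal.mem_span_singleton_self x))
      let s : LTSeries (PrimeSpectrum S) :=
        { length := 2
          toFun := ![⟨r, hr.1.1⟩, ⟨q, hq⟩, ⟨Q, hQ.isPrime⟩]
          step := fun i => by
            fin_cases i
            · exact hlt
            · exact lt_of_le_not_ge hqQ hQq }
      have h2 := Order.LTSeries.length_le_krullDim s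
      have h3 : ((2 : ℕ) : WithBot ℕ∞) ≤ 1 := h2.trans hdim
      norm_num at h3
    have hass : Q ∈ associatedPrimes S (S ⧸ Ideal.span {x}) :=
      Module.associatedPrimes.minimalPrimes_annihilator_subset_associatedPrimes S (S ⧸ Ideal.span {x})
        (by rwa [Ideal.annihilator_quotient])
    obtain ⟨-, g, hg⟩ := (isAssociatedPrime_iff_exists_injective_linearMap Q _).1 hass
    obtain ⟨y, hy⟩ := Ideal.Quotient.mk_surjective (g (Ideal.Quotient.mk Q 1))
    have hyx : y ∉ Ideal.span {x} := fun h => by
      rw [← Ideal.Quotient.eq_zero_iff_mem, hy, map_eq_zero_iff g hg, Ideal.Quotient.eq_zero_iff_mem] at h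
      exact hQ.ne_top ((Ideal.eq_top_iff_one Q).2 h)
    have hQy : ∀ t ∈ T, x ∣ y * t := fun t ht => by
      rw [← Ideal.mem_span_singleton, ← Ideal.Quotient.eq_zero_iff_mem, mul_comm]
      show (Ideal.Quotient.mk (Ideal.span {x})) (t • y) = 0
      rw [← Ideal.Quotient.mk_eq_mk, Submodule.Quotient.mk_smul, Ideal.Quotient.mk_eq_mk, hy,
        ← map_smul]
      have : t • (Ideal.Quotient.mk Q 1) = 0 := by
        rw [← Ideal.Quotient.mk_eq_mk, ← Submodule.Quotient.mk_smul, smul_eq_mul, mul_one,
          Submodule.Quotient.mk_eq_zero]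
        exact hTQ ht
      rw [this, map_zero]
    choose D hD using hQy
    have huniq : ∀ a b : S, x * a = x * b → a = b := fun a b hab => by
      rw [← sub_eq_zero]
      exact (mem_nonZeroDivisors_iff_left.1 hxreg) _ (by rw [mul_sub, hab, sub_self])
    let ξ : M →ₗ[S] Module.Dual S (Module.Dual S M) :=
      LinearMap.mk₂ S (fun m φ => D (φ m) (hTmem φ m))
        (fun m m' φ => huniq _ _ (by rw [mul_add, ← hD, ← hD, ← hD, map_add]; ring))
        (fun c m φ => huniq _ _ (by rw [smul_eq_mul, mul_left_comm, ← hD, ← hD, map_smul, smul_eq_mul]; ring))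
        (fun m φ φ' => huniq _ _ (by rw [mul_add, ← hD, ← hD, ← hD, LinearMap.add_apply]; ring))
        (fun c m φ => huniq _ _ (by
          rw [smul_eq_mul, mul_left_comm, ← hD, ← hD, LinearMap.smul_apply, smul_eq_mul]; ring))
    let e := LinearEquiv.ofBijective (Module.Dual.eval S M) hrefl
    obtain ⟨s, hs⟩ := hend.2 (e.symm.toLinearMap ∘ₗ ξ)
    have hm : ∀ m : M, (x * s) • m = y • m := fun m => by
      apply hrefl.1
      refine LinearMap.ext fun φ => ?_
      show φ ((x * s) • m) = φ (y • m)
      simp only [map_smul, smul_eq_mul]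
      have h1 := LinearMap.congr_fun hs m
      rw [Module.algebraMap_end_apply] at h1
      have h2 := congrArg (fun v => (e v) φ) h1
      simp only [LinearMap.coe_comp, LinearEquiv.coe_coe, Function.comp_apply,
        LinearEquiv.apply_symm_apply] at h2
      have h3 : (e (s • m)) φ = s * φ m := by
        show φ (s • m) = s * φ m
        rw [map_smul, smul_eq_mul]
      rw [h3] at h2
      rw [mul_assoc, h2, hD _ (hTmem φ m)]
      rfl
    have : x * s = y := hend.1 (LinearMap.ext fun m => by
      simp only [Module.algebraMap_end_apply]; exact hm m)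
    exact hyx (Ideal.mem_span_singleton.2 ⟨s, this.symm⟩)
  -- a generator at `P`
  obtain ⟨φ, m₀, hφ⟩ : ∃ (φ : Module.Dual S M) (m₀ : M), φ m₀ ∉ P := by
    by_contra! hall
    exact hP.ne_top (top_le_iff.1 (hT ▸ iSup_le fun φ => by rintro _ ⟨m, rfl⟩; exact hall φ m))
  obtain ⟨c, hc⟩ := hend.2 (φ.smulRight m₀)
  have hc' : ∀ m, c • m = φ m • m₀ := fun m => by
    simpa [Module.algebraMap_end_apply] using LinearMap.congr_fun hc m
  have hcP : c ∉ P := fun h => by
    have h1 := congrArg φ (hc' m₀)
    simp only [map_smul, smul_eq_mul] at h1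
    exact (hP.mem_or_mem (h1 ▸ P.mul_mem_right (φ m₀) h)).elim hφ hφ
  let L := Localization.AtPrime P
  let ι := LocalizedModule.mkLinearMap P.primeCompl M
  let g : L →ₗ[L] LocalizedModule P.primeCompl M := LinearMap.toSpanSingleton L _ (ι m₀)
  refine ⟨(LinearEquiv.ofBijective g ⟨?_, ?_⟩).symm⟩
  · rw [injective_iff_map_eq_zero]
    intro a ha
    obtain ⟨a, u, rfl⟩ := IsLocalization.exists_mk'_eq P.primeCompl a
    have h1 : LocalizedModule.mk (a • m₀) (u * 1) = (0 : LocalizedModule P.primeCompl M) := by
      rw [← LocalizedModule.mk_smul_mk, Localization.mk_eq_mk']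
      exact ha
    rw [← LocalizedModule.zero_mk 1, LocalizedModule.mk_eq] at h1
    obtain ⟨w, hw⟩ := h1
    rw [IsLocalization.mk'_eq_zero_iff]
    refine ⟨w * ⟨φ m₀, hφ⟩, ?_⟩
    have := congrArg φ hw
    simp only [Submonoid.smul_def, map_smul, map_zero, smul_zero, smul_eq_mul, one_mul,
      Submonoid.coe_one] at this
    simp only [Submonoid.coe_mul]
    linear_combination this
  · intro v
    induction v using LocalizedModule.induction_on with
    | h m u =>
      refine ⟨IsLocalization.mk' L (φ m) (⟨c, hcP⟩ * u), ?_⟩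
      show IsLocalization.mk' L (φ m) (⟨c, hcP⟩ * u) • LocalizedModule.mk m₀ 1 = LocalizedModule.mk m u
      rw [← Localization.mk_eq_mk', LocalizedModule.mk_smul_mk, mul_one, ← hc' m]
      exact LocalizedModule.mk_cancel_common_left ⟨c, hcP⟩ u m

end TorsionlessLib
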